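import Cfsg.Agent.H40.AbSolv.Simple

/-!
# Groups with abelian Sylow 2-subgroups and solvable centralisers of involutions

Reduction to simple groups.
-/

set_option autoImplicit false
set_option linter.style.haveILetI false

namespace Cfsg.Agent.H40.AbSolv

open Subgroup BenderCons37

universe u

section trivialCore

variable {Y : Type u} [Group Y] [Finite Y]

/-- With trivial odd core and `Y` not solvable there is no solvable normal subgroup but `⊥`. -/
theorem eq_bot_of_solvable_normal (hO : Cfsg.oddCore Y = ⊥) (hns : ¬ Group.IsSolvable Y)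
    (T : Sylow 2 Y) (hab : IsMulCommutative (T : Subgroup Y))
    (hcent : ∀ t : Y, orderOf t = 2 → Group.IsSolvable (centralizer ({t} : Set Y)))
    (N : Subgroup Y) [N.Normal] [Group.IsSolvable N] : N = ⊥ := by
  haveI : Fact (Nat.Prime 2) := ⟨Nat.prime_two⟩
  by_contra hne
  obtain ⟨A, hA, hAN⟩ := Fitting.exists_isMinNormal_le ‹N.Normal› hne
  haveI := hA.1
  haveI : Group.IsSolvable A :=
    Group.isSolvable_of_isSolvable_injective (inclusion_injective hAN)
  haveI := hA.isMulCommutative
  obtain ⟨p, hp, hel⟩ := hA.exists_isElementaryAbelian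
  haveI : Fact p.Prime := ⟨hp⟩
  have hpg : IsPGroup p A := Fitting.isPGroup_of_isElementaryAbelian hel
  rcases hp.eq_two_or_odd' with rfl | hodd
  · have hAT : A ≤ (T : Subgroup Y) :=
      le_sup_left.trans (T.is_maximal' (hpg.to_sup_of_normal_left T.isPGroup') le_sup_right).le
    obtain ⟨t, htA, ht⟩ := CISylow69.exists_inv_of_ne_bot hpg hA.2.1
    have hTC : (T : Subgroup Y) ≤ centralizer (A : Set Y) := fun x hx =>
      mem_centralizer_iff.2 fun a ha => Thompson.elemAb_comm hab (hAT ha) hx
    haveI := hcent t ht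
    haveI : Group.IsSolvable (centralizer (A : Set Y)) :=
      Group.isSolvable_of_isSolvable_injective (inclusion_injective
        (centralizer_le (Set.singleton_subset_iff.2 htA) :
          centralizer (A : Set Y) ≤ centralizer ({t} : Set Y)))
    haveI : Group.IsSolvable (Y ⧸ centralizer (A : Set Y)) := PF14.feitThompson _ (by
      rw [← Subgroup.index_eq_card, ← Nat.not_even_iff_odd, even_iff_two_dvd]
      exact fun h => T.not_dvd_index (h.trans (Subgroup.index_dvd_of_le hTC)))
    exact hns (U3Sylow80.isSolvable_of_ext (centralizer (A : Set Y)))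
  · obtain ⟨k, hk⟩ := IsPGroup.iff_card.1 hpg
    refine hA.2.1 (le_bot_iff.1 (le_of_le_of_eq ?_ hO))
    refine Thompson.le_pPrimeCore hA.1 (Nat.coprime_two_right.2 ?_)
    rw [hk]
    exact hodd.pow

/-- The case of trivial odd core. -/
theorem exists_target (hsp : BenderSplit.{u}) (hKl : GW66.KleinStmt.{u})
    (hO : Cfsg.oddCore Y = ⊥) (hns : ¬ Group.IsSolvable Y)
    (T : Sylow 2 Y) (hab : IsMulCommutative (T : Subgroup Y))
    (hcent : ∀ t : Y, orderOf t = 2 → Group.IsSolvable (centralizer ({t} : Set Y))) :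
    ∃ N : Subgroup Y, N.Normal ∧ Target ↥N ∧ centralizer (N : Set Y) = ⊥ := by
  classical
  haveI : Fact (Nat.Prime 2) := ⟨Nat.prime_two⟩
  have key := fun (K : Subgroup Y) (h1 : K.Normal) (h2 : Group.IsSolvable K) =>
    @eq_bot_of_solvable_normal Y _ _ hO hns T hab hcent K h1 h2
  haveI : Nontrivial Y := by
    by_contra h
    haveI := not_nontrivial_iff_subsingleton.1 h
    exact hns inferInstance
  obtain ⟨N, hN⟩ := Fitting.exists_isMinNormal (G := Y)
  haveI := hN.1
  have hNns : ¬ Group.IsSolvable N := fun h => hN.2.1 (key N hN.1 h)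
  haveI : Nontrivial N := (nontrivial_iff_ne_bot N).2 hN.2.1
  obtain ⟨M, hM⟩ := Fitting.exists_isMinNormal (G := N)
  haveI := hM.1
  have hMns : ¬ Group.IsSolvable M := by
    intro h
    haveI := hM.isMulCommutative
    obtain ⟨p, hp, hel⟩ := hM.exists_isElementaryAbelian
    haveI : Fact p.Prime := ⟨hp⟩
    have hMp : M ≤ Cfsg.pCore p N :=
      Thompson.le_pCore hM.1 (Fitting.isPGroup_of_isElementaryAbelian hel)
    have hPp : IsPGroup p ((Cfsg.pCore p N).map N.subtype) := Thompson.isPGroup_pCore.map _
    haveI := hPp.isNilpotent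
    have hP := key ((Cfsg.pCore p N).map N.subtype)
      (Thompson.map_subtype_normal_of_characteristic N _) inferInstance
    rw [Subgroup.map_eq_bot_iff_of_injective _ N.subtype_injective] at hP
    exact hM.2.1 (le_bot_iff.1 (hP ▸ hMp))
  have hMeven : 2 ∣ Nat.card M := by
    rw [← even_iff_two_dvd, ← Nat.not_odd_iff_even]
    exact fun h => hMns (PF14.feitThompson _ h)
  obtain ⟨t, ht⟩ := exists_prime_orderOf_dvd_card' (G := M) 2 hMeven
  have ht2 : orderOf ((t : N) : Y) = 2 := by
    rw [Subgroup.orderOf_coe, Subgroup.orderOf_coe, ht]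
  -- the conjugates of `M` in `Y`
  have hfix : ∀ g : Y, M.map (MulAut.conjNormal g : MulAut N).toMonoidHom = M := by
    intro g
    set σ : MulAut N := MulAut.conjNormal g
    haveI : (M.map σ.toMonoidHom).Normal := hM.1.map _ σ.surjective
    rcases hM.le_or_inf_eq_bot (M.map σ.toMonoidHom) with h | h
    · exact (Subgroup.eq_of_le_of_card_ge h
        (Subgroup.card_map_of_injective σ.injective).le).symm
    · exfalso
      haveI := hcent _ ht2
      refine hMns (Group.isSolvable_of_isSolvable_injective
        (f := ((N.subtype.comp (σ.toMonoidHom.comp M.subtype)).codRestrict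
          (centralizer ({((t : N) : Y)} : Set Y)) fun x => ?_)) ?_)
      · rw [mem_centralizer_singleton_iff]
        exact congrArg Subtype.val (Subgroup.commute_of_normal_of_disjoint M (M.map σ.toMonoidHom)
          hM.1 inferInstance (disjoint_iff.2 h) (t : N) (σ (x : N)) t.2 ⟨_, x.2, rfl⟩).eq.symm
      · intro x y hxy
        exact Subtype.ext (σ.injective (N.subtype_injective (congrArg Subtype.val hxy :)))
  have hMtop : M = ⊤ := by
    have hn : (M.map N.subtype).Normal := ⟨by
      rintro _ ⟨x, hx, rfl⟩ g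
      refine ⟨(MulAut.conjNormal g : MulAut N) x, ?_, ?_⟩
      · have := hfix g
        exact this.le ⟨x, hx, rfl⟩
      · simp⟩
    rcases hN.2.2 _ hn (Subgroup.map_subtype_le M) with h | h
    · exact absurd ((Subgroup.map_eq_bot_iff_of_injective _ N.subtype_injective).1 h) hM.2.1
    · apply Subgroup.map_injective N.subtype_injective
      rw [h, ← MonoidHom.range_eq_map, Subgroup.range_subtype]
  haveI : IsSimpleGroup N := ⟨fun K hK => by
    have := hM.2.2 K hK (hMtop.symm ▸ le_top)
    rwa [hMtop] at this⟩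
  have hna : ¬ IsMulCommutative N := fun h =>
    hNns (Group.isSolvable_of_comm fun a b => h.is_comm.comm a b)
  have htN : ((t : N) : Y) ∈ N := (t : N).2
  refine ⟨N, hN.1, ?_, ?_⟩
  · obtain ⟨R⟩ := (inferInstance : Nonempty (Sylow 2 N))
    obtain ⟨W, hW⟩ := (R.isPGroup'.map N.subtype).exists_le_sylow
    have hWab : IsMulCommutative (W : Subgroup Y) := by
      obtain ⟨g, rfl⟩ := MulAction.exists_smul_eq Y T W
      haveI := hab
      rw [Sylow.coe_subgroup_smul]
      exact inferInstanceAs (IsMulCommutative ((T : Subgroup Y).map (MulAut.conj g).toMonoidHom))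
    refine target_of_simple hsp hKl hna R ⟨⟨fun a b => Subtype.ext (Subtype.ext ?_)⟩⟩ ?_
    · exact Thompson.elemAb_comm hWab (hW ⟨_, a.2, rfl⟩) (hW ⟨_, b.2, rfl⟩)
    · intro s hs
      haveI := hcent (s : Y) (by rw [Subgroup.orderOf_coe, hs])
      refine Group.isSolvable_of_isSolvable_injective
        (f := ((N.subtype.comp (centralizer ({s} : Set N)).subtype).codRestrict
          (centralizer ({(s : Y)} : Set Y)) fun x => ?_)) ?_
      · rw [mem_centralizer_singleton_iff]
        exact congrArg Subtype.val (mem_centralizer_singleton_iff.1 x.2)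
      · intro x y hxy
        exact Subtype.ext (Subtype.ext (congrArg Subtype.val hxy :))
  · haveI := hcent _ ht2
    haveI : Group.IsSolvable (centralizer (N : Set Y)) :=
      Group.isSolvable_of_isSolvable_injective (inclusion_injective
        (centralizer_le (Set.singleton_subset_iff.2 htN) :
          centralizer (N : Set Y) ≤ centralizer ({((t : N) : Y)} : Set Y)))
    exact key _ inferInstance inferInstance

end trivialCore

/-- The statement, from Bender's theorem and the four-group case. -/
theorem s3188_of (hsp : BenderSplit.{u}) (hKl : GW66.KleinStmt.{u}) {G : Type u} [Group G]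
    [Finite G] (S : Sylow 2 G) (hS : IsMulCommutative ↥(S : Subgroup G))
    (hC : ∀ t : G, orderOf t = 2 → Group.IsSolvable ↥(Subgroup.centralizer ({t} : Set G))) :
    Group.IsSolvable G ∨
      ∃ (F : Type) (_ : Field F) (_ : Fintype F),
        (((Fintype.card F % 8 = 3 ∨ Fintype.card F % 8 = 5) ∧ 5 ≤ Fintype.card F) ∨
          (∃ n : ℕ, 2 ≤ n ∧ Fintype.card F = 2 ^ n)) ∧
        ∃ N : Subgroup (G ⧸ Cfsg.oddCore G), N.Normal ∧
          Nonempty (↥N ≃* Matrix.ProjectiveSpecialLinearGroup (Fin 2) F) ∧
          Subgroup.centralizer (N : Set (G ⧸ Cfsg.oddCore G)) = ⊥ := by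
  haveI : Fact (Nat.Prime 2) := ⟨Nat.prime_two⟩
  by_cases hsol : Group.IsSolvable G
  · exact Or.inl hsol
  right
  haveI := hS
  set O := Cfsg.oddCore G with hOdef
  let π := QuotientGroup.mk' O
  have hsurj : Function.Surjective π := QuotientGroup.mk'_surjective O
  have hOodd : Odd (Nat.card O) := BenderCons37.oddCore_card_odd
  haveI : Group.IsSolvable O := PF14.feitThompson _ hOodd
  have hnsq : ¬ Group.IsSolvable (G ⧸ O) := fun h =>
    hsol (U3Sylow80.isSolvable_of_ext O)
  have hlift : ∀ (V : Sylow 2 G) (t : G ⧸ O), t ∈ (V : Subgroup G).map π → orderOf t = 2 →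
      ∃ s ∈ (V : Subgroup G), orderOf s = 2 ∧ π s = t := by
    rintro V _ ⟨s, hs, rfl⟩ ht
    refine ⟨s, hs, orderOf_eq_two (fun e => ?_) ?_, rfl⟩
    · rw [e, map_one, orderOf_one] at ht; omega
    · refine Subgroup.mem_bot.1 ?_
      rw [← Thompson.inf_eq_bot_of_isPGroup_of_coprime V.isPGroup'
        (Nat.coprime_two_right.2 hOodd)]
      refine ⟨mul_mem hs hs, ?_⟩
      show s * s ∈ O
      rw [← QuotientGroup.eq_one_iff]
      show π (s * s) = 1
      rw [map_mul, U3Sylow80.mul_self_of_orderOf ht]
  have hcentq : ∀ t : G ⧸ O, orderOf t = 2 →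
      Group.IsSolvable (centralizer ({t} : Set (G ⧸ O))) := by
    intro t ht
    obtain ⟨R, hR⟩ := (IsPGroup.of_card (n := 1) (by rw [Nat.card_zpowers, ht, pow_one]) :
      IsPGroup 2 ↥(zpowers t)).exists_le_sylow
    obtain ⟨V, hV⟩ := Sylow.mapSurjective_surjective hsurj 2 R
    have htV : t ∈ (V : Subgroup G).map π := by
      have h1 := hR (mem_zpowers t)
      rw [← hV] at h1
      exact h1
    obtain ⟨s, -, hs2, rfl⟩ := hlift V t htV ht
    haveI := hC s hs2
    haveI : Group.IsSolvable ((centralizer ({s} : Set G)).map π) :=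
      Group.isSolvable_of_surjective (π.subgroupMap_surjective (centralizer ({s} : Set G)))
    exact Group.isSolvable_of_isSolvable_injective (inclusion_injective
      (U3Sylow80.centralizer_mk_le hOodd (U3Sylow80.mul_self_of_orderOf hs2)))
  obtain ⟨N, hN, ⟨F, iF, iT, hq, he⟩, hCN⟩ := exists_target hsp hKl
    BenderCons37.oddCore_quotient hnsq (S.mapSurjective (f := π) hsurj)
    (inferInstance : IsMulCommutative ((S : Subgroup G).map π)) hcentq
  exact ⟨F, iF, iT, hq, N, hN, he, hCN⟩

end Cfsg.Agent.H40.AbSolv
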