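import Cfsg.Agent.U3Sylow80.AbSyl
import Cfsg.Agent.GW66.Defs
import Cfsg.Agent.Lib.CharCore.Burnside
import Cfsg.Agent.Lib.LinearGroup.PSLTools

/-!
# Simple groups with abelian Sylow 2-subgroups and solvable centralisers of involutions

The classification, from Bender's theorem and the four-group case `GW66.KleinStmt`.
-/

set_option autoImplicit false
set_option linter.style.haveILetI false

namespace Cfsg.Agent.H40.AbSolv

open Subgroup BenderCons37

universe u

/-- The groups `PSL(2, q)` which occur. -/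
def Target (Y : Type u) [Group Y] : Prop :=
  ∃ (F : Type) (_ : Field F) (_ : Fintype F),
    (((Fintype.card F % 8 = 3 ∨ Fintype.card F % 8 = 5) ∧ 5 ≤ Fintype.card F) ∨
      (∃ n : ℕ, 2 ≤ n ∧ Fintype.card F = 2 ^ n)) ∧
    Nonempty (Y ≃* Matrix.ProjectiveSpecialLinearGroup (Fin 2) F)

/-- A non-abelian simple group is not solvable. -/
theorem not_isSolvable {Y : Type u} [Group Y] [IsSimpleGroup Y] (hna : ¬ IsMulCommutative Y) :
    ¬ Group.IsSolvable Y := fun h =>
  hna ⟨⟨fun a b => (IsSimpleGroup.comm_iff_isSolvable.2 h) a b⟩⟩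

/-- The rank at least three case. -/
theorem target_of_rank_three (hsp : BenderSplit.{u}) {Y : Type u} [Group Y] [Finite Y]
    [IsSimpleGroup Y] (hO : Cfsg.oddCore Y = ⊥) (T : Sylow 2 Y)
    (hab : IsMulCommutative (T : Subgroup Y)) (hA3 : ¬ Cfsg.PRankLE 2 2 ↥(⊤ : Subgroup (T : Subgroup Y)))
    (hcent : ∀ t : Y, orderOf t = 2 → Group.IsSolvable (centralizer ({t} : Set Y)))
    (hn : ¬ (T : Subgroup Y).Normal) : Target Y := by
  haveI : Fact (Nat.Prime 2) := ⟨Nat.prime_two⟩
  haveI := hab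
  have hcore : ∀ t : Y, orderOf t = 2 → Cfsg.centralizerPPrimeCore 2 t = ⊥ := fun t ht =>
    BC85.Balance.cores_trivial_scn (fun G _ _ H hH => BenderCons37.s1221_of hsp hH)
      (fun j hj => BC85.Balance.isPConstrained_of_solvable (hcent j hj)) hO T ⊤ inferInstance
      inferInstance hA3 ht
  have hcN : ∀ t ∈ (T : Subgroup Y), orderOf t = 2 →
      centralizer ({t} : Set Y) ≤ normalizer ((T : Subgroup Y) : Set Y) := by
    intro t ht ht2 g hg
    set C := centralizer ({t} : Set Y) with hC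
    have hTC : (T : Subgroup Y) ≤ C := fun x hx =>
      mem_centralizer_singleton_iff.2 (Thompson.elemAb_comm hab hx ht)
    have hOC : Cfsg.oddCore C = ⊥ :=
      (Subgroup.map_eq_bot_iff_of_injective _ C.subtype_injective).1 (hcore t ht2)
    have hn := U3Sylow80.normal_of_solvable_abelian (T.subtype hTC)
      (by rw [Sylow.coe_subtype]; infer_instance) (hcent t ht2) hOC
    rw [Sylow.coe_subtype] at hn
    exact (Subgroup.normal_subgroupOf_iff_le_normalizer hTC).1 hn hg
  have hne : (T : Subgroup Y) ≠ ⊥ := fun e => hn (by rw [e]; infer_instance)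
  obtain ⟨R, hR, -, -, -, hgt⟩ := CISylow69.data_of_stronglyEmbedded hsp
    (U3Sylow80.stronglyEmbedded_normalizer T hne hcN hn) hO
  rw [U3Sylow80.sylow_unique_of_le_normalizer T R hR] at hgt
  have hEtop : Cfsg.pElementClosure 2 (⊤ : Subgroup Y) = ⊤ := by
    have hN : (Cfsg.pElementClosure 2 (⊤ : Subgroup Y)).Normal := ⟨fun x hx g => by
      have : Cfsg.pElementClosure 2 (⊤ : Subgroup Y) ≤
          (Cfsg.pElementClosure 2 (⊤ : Subgroup Y)).comap (MulAut.conj g).toMonoidHom :=
        (Subgroup.closure_le _).2 fun y hy => Subgroup.subset_closure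
          ⟨mem_top _, hy.2.imp fun k hk => (TwoFusionB.orderOf_conj_eq g y).trans hk⟩
      exact this hx⟩
    have hTE : (T : Subgroup Y) ≤ Cfsg.pElementClosure 2 (⊤ : Subgroup Y) := fun x hx => by
      obtain ⟨k, hk⟩ := IsPGroup.iff_orderOf.1 T.isPGroup' ⟨x, hx⟩
      exact Subgroup.subset_closure ⟨mem_top _, k, (Subgroup.orderOf_mk x hx).symm.trans hk⟩
    rcases hN.eq_bot_or_eq_top with h | h
    · exact absurd (le_bot_iff.1 (h ▸ hTE)) hne
    · exact h
  have hnc : ¬ CISylow69.NonComm (T : Subgroup Y) := fun ⟨a, ha, b, hb, hne'⟩ =>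
    hne' (Thompson.elemAb_comm hab ha hb)
  rcases hgt with ⟨-, F, iF, iT, n, hn2, hc, ⟨e⟩⟩ | ⟨h, -⟩ | ⟨h, -⟩
  · exact ⟨F, iF, iT, Or.inr ⟨n, hn2, hc⟩,
      ⟨((MulEquiv.subgroupCongr hEtop).trans Subgroup.topEquiv).symm.trans e⟩⟩
  · exact absurd h hnc
  · exact absurd h hnc

/-- The simple groups. -/
theorem target_of_simple (hsp : BenderSplit.{u}) (hKl : GW66.KleinStmt.{u}) {Y : Type u} [Group Y]
    [Finite Y] [IsSimpleGroup Y] (hna : ¬ IsMulCommutative Y) (T : Sylow 2 Y)
    (hab : IsMulCommutative (T : Subgroup Y))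
    (hcent : ∀ t : Y, orderOf t = 2 → Group.IsSolvable (centralizer ({t} : Set Y))) : Target Y := by
  classical
  haveI : Fact (Nat.Prime 2) := ⟨Nat.prime_two⟩
  haveI := hab
  have hns := not_isSolvable hna
  have hO : Cfsg.oddCore Y = ⊥ := by
    rcases (inferInstance : (Cfsg.oddCore Y).Normal).eq_bot_or_eq_top with h | h
    · exact h
    · exfalso
      refine hns (PF14.feitThompson _ ?_)
      have := BenderCons37.oddCore_card_odd (G := Y)
      rwa [h, Subgroup.card_top] at this
  have hn : ¬ (T : Subgroup Y).Normal := fun h => hns (U3Sylow80.isSolvable_of_normal_sylow T h)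
  obtain ⟨W, hW⟩ := U3Sylow80.exists_omega_of_abelian hab
  have hW2 : ∀ a ∈ W, a ^ 2 = 1 := fun a ha => by rw [pow_two]; exact (hW a).1 ha
  by_cases h8 : 4 < Nat.card W
  · refine target_of_rank_three hsp hO T hab ?_ hcent hn
    intro h
    have := h (W.map Subgroup.topEquiv.symm.toMonoidHom) inferInstance (by
      rintro _ ⟨a, ha, rfl⟩
      rw [← map_pow, hW2 a ha, map_one])
    rw [card_map_of_injective Subgroup.topEquiv.symm.injective] at this
    omega
  -- two-rank at most two
  by_cases hfix : ∀ g ∈ normalizer ((T : Subgroup Y) : Set Y), Odd (orderOf g) →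
      ∀ d ∈ (T : Subgroup Y), d ^ 2 = 1 → g * d = d * g
  · exfalso
    have hnc : normalizer ((T : Subgroup Y) : Set Y) ≤
        centralizer ((T : Subgroup Y) : Set Y) := by
      intro g hg
      obtain ⟨k, m, hm, hgm⟩ := Nat.exists_eq_pow_mul_and_not_dvd (orderOf_pos g).ne' 2
        (by norm_num)
      have hmo : Odd m := Nat.not_even_iff_odd.1 fun h => hm (even_iff_two_dvd.1 h)
      obtain ⟨a, b, hab'⟩ := Nat.isCoprime_iff_coprime.2
        (Nat.Coprime.pow_left k ((Nat.Prime.coprime_iff_not_dvd Nat.prime_two).2 hm))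
      have h1 : g ^ ((2 : ℕ) ^ k) ∈ centralizer ((T : Subgroup Y) : Set Y) := by
        refine mem_centralizer_iff.2 fun d hd => ?_
        refine (T51.EG.centralizes_of_omega T.isPGroup' hab (pow_mem hg _) ?_
          (hfix _ (pow_mem hg _) ?_) d hd).symm <;>
        · refine hmo.of_dvd_nat (orderOf_dvd_of_pow_eq_one ?_)
          rw [← pow_mul, ← hgm, pow_orderOf_eq_one]
      have h2 : g ^ m ∈ centralizer ((T : Subgroup Y) : Set Y) := by
        have hgT : g ^ m ∈ (T : Subgroup Y) := by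
          obtain ⟨j, -, hj⟩ := (Nat.dvd_prime_pow Nat.prime_two).1
            (orderOf_dvd_of_pow_eq_one (x := g ^ m) (n := 2 ^ k)
              (by rw [← pow_mul, mul_comm, ← hgm, pow_orderOf_eq_one]))
          exact U3Sylow80.mem_sylow_of_normalizes T (pow_mem hg _) hj
        exact T.le_centralizer hgT
      have e : g = (g ^ ((2 : ℕ) ^ k)) ^ a * (g ^ m) ^ b := by
        rw [← zpow_natCast, ← zpow_natCast, ← zpow_mul, ← zpow_mul, ← zpow_add, mul_comm _ a,
          mul_comm _ b, hab', zpow_one]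
      rw [e]
      exact mul_mem (zpow_mem h1 a) (zpow_mem h2 b)
    have hc := MonoidHom.ker_transferSylow_isComplement' T hnc
    set K := (MonoidHom.transferSylow T hnc).ker
    have hK : Odd (Nat.card K) := by
      rw [← hc.index_eq_card, ← Nat.not_even_iff_odd, even_iff_two_dvd]
      exact T.not_dvd_index
    have hK1 : K = ⊥ := by
      rw [eq_bot_iff, ← hO]
      exact Thompson.le_pPrimeCore inferInstance (Nat.coprime_two_right.2 hK)
    have hT : (T : Subgroup Y) = ⊤ := Subgroup.isComplement'_bot_left.1 (hK1 ▸ hc)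
    exact hn (by rw [hT]; infer_instance)
  push Not at hfix
  obtain ⟨g, hg, hgo, d₀, hd₀, hd₀2, hne⟩ := hfix
  have hbij : ∀ x : (T : Subgroup Y), g * x * g⁻¹ ∈ (T : Subgroup Y) := fun x =>
    (Subgroup.mem_normalizer_iff.1 hg x).1 x.2
  let ψ : MulAut (T : Subgroup Y) :=
    { toFun := fun x => ⟨g * x * g⁻¹, hbij x⟩
      invFun := fun x => ⟨g⁻¹ * x * g, by
        have := (Subgroup.mem_normalizer_iff.1 (inv_mem hg) x).1 x.2
        simpa using this⟩
      left_inv := fun x => Subtype.ext (by simp [mul_assoc])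
      right_inv := fun x => Subtype.ext (by simp [mul_assoc])
      map_mul' := fun x y => Subtype.ext (by simp [mul_assoc]) }
  have hψv : ∀ x, (ψ x : Y) = g * x * g⁻¹ := fun x => rfl
  set a₀ : (T : Subgroup Y) := ⟨d₀, hd₀⟩
  have ha₀ : a₀ * a₀ = 1 := Subtype.ext (by rw [← pow_two] at *; exact hd₀2)
  have hψa : ψ a₀ ≠ a₀ := fun e => hne (mul_inv_eq_iff_eq_mul.1 (congrArg Subtype.val e :))
  have hTI : TwoFusionB.ThreeInvol (T : Subgroup Y) := by
    refine ⟨T.isPGroup', fun x _ => Subgroup.mem_center_iff.2 fun y => hab.is_comm.comm y x, ?_⟩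
    rw [← Nat.card_congr (Equiv.subtypeEquivRight hW)]
    obtain ⟨j, hj⟩ := IsPGroup.iff_card.1 (T.isPGroup'.to_subgroup W)
    show Nat.card W = 4
    have h3 : 3 ≤ Nat.card W := by
      haveI := Fintype.ofFinite W
      rw [Nat.card_eq_fintype_card]
      refine le_trans ?_ (Finset.card_le_univ
        ({⟨1, W.one_mem⟩, ⟨a₀, (hW _).2 ha₀⟩,
          ⟨ψ a₀, (hW _).2 (by rw [← map_mul, ha₀, map_one])⟩} : Finset W))
      have n1 : a₀ ≠ 1 := fun e => hψa (by rw [e, map_one])
      have n2 : ψ a₀ ≠ 1 := fun e => n1 (by simpa using e)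
      rw [Finset.card_insert_of_notMem (by simp [n1.symm, n2.symm]),
        Finset.card_insert_of_notMem (by simp [Ne.symm hψa]), Finset.card_singleton]
    rw [hj] at h3 h8 ⊢
    have : j = 2 := by
      rcases j with _ | _ | _ | j
      · norm_num at h3
      · norm_num at h3
      · rfl
      · exfalso; rw [pow_succ, pow_succ, pow_succ] at h8; have := Nat.one_le_two_pow (n := j); omega
    rw [this]; norm_num
  have hψn : ∀ x : (T : Subgroup Y), ψ (ψ x) = x → ψ x = x := by
    intro x hx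
    obtain ⟨k, hk⟩ := hgo
    have hk1 : (ψ ^ (2 * k + 1)) x = x := by
      have : ∀ i : ℕ, ((ψ ^ i) x : Y) = g ^ i * x * (g ^ i)⁻¹ := by
        intro i
        induction i with
        | zero => simp
        | succ i ih => rw [pow_succ', MulAut.mul_apply, hψv, ih, pow_succ']; group
      exact Subtype.ext (by rw [this, ← hk, pow_orderOf_eq_one]; simp)
    have h2 : ∀ i : ℕ, (ψ ^ (2 * i)) x = x := by
      intro i
      induction i with
      | zero => simp
      | succ i ih =>
        rw [show 2 * (i + 1) = 2 + 2 * i by ring, pow_add, MulAut.mul_apply, ih, pow_two,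
          MulAut.mul_apply, hx]
    rwa [pow_succ', MulAut.mul_apply, h2] at hk1
  have hfix0 : ∀ x, x * x = 1 → ψ x = x → x = 1 := by
    intro x hx hψx
    by_contra hx1
    have hb : ψ a₀ * ψ a₀ = 1 := by rw [← map_mul, ha₀, map_one]
    have hxa : x ≠ a₀ := fun e => hψa (e ▸ hψx)
    have ha1 : a₀ ≠ 1 := fun e => hψa (by rw [e, map_one])
    rcases hTI.eq_or hx ha₀ hb hx1 ha1 hxa with e | e | e | e
    · exact ha1 (by simpa using e)
    · exact hxa (ψ.injective (hψx.trans e.symm))
    · exact hψa e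
    · exact hψa (hψn a₀ (by rw [e, map_mul, hψx, e, ← mul_assoc, hx, one_mul]))
  obtain ⟨m, hm, ⟨e⟩⟩ :=
    S1237.homocyclic hTI (fun a b => hab.is_comm.comm a b) ψ hfix0
  rcases Nat.lt_or_ge m 2 with hm2 | hm2
  swap
  · exact absurd (S0949.result T m hm2 e fun N hN hNo => by
      rw [eq_bot_iff, ← hO]
      exact Thompson.le_pPrimeCore hN (Nat.coprime_two_right.2 hNo)).1 hn
  obtain rfl : m = 1 := by omega
  have hcard : Nat.card (T : Subgroup Y) = 4 := by
    rw [Nat.card_congr e.toEquiv, Nat.card_congr Multiplicative.toAdd, Nat.card_prod, Nat.card_zmod]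
    norm_num
  have hexp : ∀ x : (T : Subgroup Y), x * x = 1 := fun x => e.injective (by
    rw [map_mul, map_one]; exact U3Sylow80.mul_self_klein _)
  haveI : IsKleinFour (T : Subgroup Y) := ⟨hcard, by
    refine (Nat.prime_two.eq_one_or_self_of_dvd _
      (Monoid.exponent_dvd_of_forall_pow_eq_one fun x => by rw [pow_two]; exact hexp x)).resolve_left
      fun h1 => ?_
    haveI : Subsingleton (T : Subgroup Y) := Monoid.exp_eq_one_iff.1 h1
    rw [Nat.card_unique] at hcard
    omega⟩
  obtain ⟨N, hNn, hNo, F, iF, iT, hq, ⟨f⟩⟩ := hKl Y (T : Subgroup Y) inferInstance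
    (Nat.not_even_iff_odd.1 fun h => T.not_dvd_index (even_iff_two_dvd.1 h))
    ⟨g, mem_top g, hg, fun hc => hne ((mem_centralizer_iff.1 hc d₀ hd₀).symm)⟩
  -- the quotient by the trivial core
  let π : Y ≃* Y ⧸ Cfsg.oddCore Y :=
    ((QuotientGroup.quotientMulEquivOfEq hO).trans QuotientGroup.quotientBot).symm
  have hFc : 2 ≤ Fintype.card F := Fintype.one_lt_card
  haveI : IsSimpleGroup (Y ⧸ Cfsg.oddCore Y) := π.symm.isSimpleGroup
  have hNt : N = ⊤ := by
    rcases hNn.eq_bot_or_eq_top with h | h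
    · exfalso
      have hev : 2 ∣ Nat.card (Y ⧸ Cfsg.oddCore Y) := by
        rw [← Nat.card_congr π.toEquiv]
        exact dvd_trans (by rw [hcard]; norm_num) (Subgroup.card_subgroup_dvd_card (T : Subgroup Y))
      rw [h, Subgroup.index_bot] at hNo
      exact Nat.not_even_iff_odd.2 hNo (even_iff_two_dvd.2 hev)
    · exact h
  let eY : Y ≃* Matrix.ProjectiveSpecialLinearGroup (Fin 2) F :=
    (π.trans ((MulEquiv.subgroupCongr hNt).trans Subgroup.topEquiv).symm).trans f
  refine ⟨F, iF, iT, Or.inl ⟨hq, ?_⟩, ⟨eY⟩⟩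
  by_contra h5
  have h3 : Fintype.card F = 3 := by omega
  have hc := LinearGroup.gcd_mul_card_PSL_two (F := F)
  rw [Nat.card_eq_fintype_card (α := F), h3, ← Nat.card_congr eY.toEquiv] at hc
  have h12 : Nat.card Y = 12 := by norm_num at hc; omega
  exact hns (CharCore.isSolvable_of_card_eq_prime_pow_mul Nat.prime_two Nat.prime_three 12 Y 2 1 h12
    (by norm_num))

end Cfsg.Agent.H40.AbSolv
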